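import Mathlib
import Groth.Prelude.Def_Wider

/-!
Injective hulls: essential injections, existence, uniqueness, change of rings along epimorphisms.
-/

namespace Groth.Agent.InjHullLib

universe u v

open InjHull TensorProduct

variable {R : Type u} [CommRing R]

section Essential

variable {M E : Type v} [AddCommGroup M] [Module R M] [AddCommGroup E] [Module R E] {f : M →ₗ[R] E}

theorem exists_smul_mem_range (hf : IsEssentialInj f) {x : E} (hx : x ≠ 0) :
    ∃ (r : R) (y : M), f y = r • x ∧ r • x ≠ 0 := by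
  obtain ⟨z, ⟨hz₁, hz₂⟩, hz⟩ := Submodule.exists_mem_ne_zero_of_ne_bot
    (hf.essential (Submodule.span R {x}) (by rwa [Ne, Submodule.span_singleton_eq_bot]))
  obtain ⟨r, rfl⟩ := Submodule.mem_span_singleton.1 hz₁
  obtain ⟨y, hy⟩ := hz₂
  exact ⟨r, y, hy, hz⟩

theorem isEssentialInj_of_forall (hinj : Function.Injective f)
    (h : ∀ x : E, x ≠ 0 → ∃ r : R, r • x ∈ LinearMap.range f ∧ r • x ≠ 0) : IsEssentialInj f := by
  refine ⟨hinj, fun N hN hbot => ?_⟩
  obtain ⟨x, hxN, hx⟩ := Submodule.exists_mem_ne_zero_of_ne_bot hN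
  obtain ⟨r, hr, hrx⟩ := h x hx
  exact hrx ((Submodule.mem_bot R).1 (hbot ▸ ⟨N.smul_mem r hxN, hr⟩))

/-- A map out of an essential extension is injective if it is injective on the small module. -/
theorem injective_of_comp_injective (hf : IsEssentialInj f) {Q : Type*} [AddCommGroup Q] [Module R Q]
    (g : E →ₗ[R] Q) (h : Function.Injective (g ∘ₗ f)) : Function.Injective g := by
  rw [injective_iff_map_eq_zero]
  intro x hx
  by_contra hne
  obtain ⟨r, y, hy, hry⟩ := exists_smul_mem_range hf hne
  refine hry ?_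
  have : (g ∘ₗ f) y = 0 := by rw [LinearMap.comp_apply, hy, map_smul, hx, smul_zero]
  rw [← hy, (injective_iff_map_eq_zero _).1 h y this, map_zero]

end Essential

section Injective

variable {Q : Type v} [AddCommGroup Q] [Module R Q]

/-- A retract of an injective module is injective. -/
theorem injective_of_retract [Module.Injective R Q] {E : Type v} [AddCommGroup E] [Module R E]
    (i : E →ₗ[R] Q) (r : Q →ₗ[R] E) (h : r ∘ₗ i = LinearMap.id) : Module.Injective R E := by
  refine ⟨fun X Y _ _ _ _ f hf g => ?_⟩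
  obtain ⟨k, hk⟩ := Module.Injective.out f hf (i ∘ₗ g)
  exact ⟨r ∘ₗ k, fun x => by
    rw [LinearMap.comp_apply, hk, LinearMap.comp_apply, ← LinearMap.comp_apply, h, LinearMap.id_apply]⟩

/-- Nonzero elements acting injectively on an injective module act surjectively. -/
theorem surjective_smul [Module.Injective R Q] {r : R} (hr : Function.Injective fun x : Q => r • x) :
    Function.Surjective fun x : Q => r • x := by
  obtain ⟨h, hh⟩ := Module.Injective.out (R := R) (r • LinearMap.id : Q →ₗ[R] Q) hr LinearMap.id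
  intro x
  refine ⟨h x, ?_⟩
  have := hh x
  rw [LinearMap.smul_apply, LinearMap.id_apply, map_smul] at this
  exact this

/-- A submodule of an injective module with no proper essential extension is injective. -/
theorem injective_of_no_essential [Module.Injective R Q] (E : Submodule R Q)
    (h : ∀ E' : Submodule R Q, E ≤ E' → (∀ N : Submodule R Q, N ≤ E' → N ≠ ⊥ → N ⊓ E ≠ ⊥) → E' = E) :
    Module.Injective R E := by
  obtain ⟨N, hN⟩ := zorn_le₀ {N : Submodule R Q | N ⊓ E = ⊥} fun c hc hchain => by
    rcases c.eq_empty_or_nonempty with rfl | hne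
    · exact ⟨⊥, by simp, by simp⟩
    refine ⟨sSup c, ?_, fun N hN => le_sSup hN⟩
    show sSup c ⊓ E = ⊥
    rw [eq_bot_iff]
    rintro x ⟨hx, hxE⟩
    obtain ⟨N, hN, hxN⟩ := (Submodule.mem_sSup_of_directed hne hchain.directedOn).1 hx
    exact (hc hN).le ⟨hxN, hxE⟩
  have hNE : N ⊓ E = ⊥ := hN.prop
  let π : E →ₗ[R] Q ⧸ N := N.mkQ ∘ₗ E.subtype
  have hπ : Function.Injective π := by
    rw [injective_iff_map_eq_zero]
    intro x hx
    exact Subtype.ext ((Submodule.mem_bot R).1 (hNE.le ⟨(Submodule.Quotient.mk_eq_zero N).1 hx, x.2⟩))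
  obtain ⟨g, hg⟩ := Module.Injective.out (R := R) π hπ E.subtype
  -- `E → Q ⧸ N` is essential, so `g` is injective
  have hess : IsEssentialInj π := by
    refine isEssentialInj_of_forall hπ fun x hx => ?_
    by_contra hcon
    push Not at hcon
    obtain ⟨x, rfl⟩ := N.mkQ_surjective x
    refine hx ((Submodule.Quotient.mk_eq_zero N).2 ?_)
    have hle : N ⊔ Submodule.span R {x} ≤ N := by
      refine hN.2 (y := N ⊔ Submodule.span R {x}) ?_ le_sup_left
      show (N ⊔ Submodule.span R {x}) ⊓ E = ⊥
      rw [eq_bot_iff]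
      rintro z ⟨hz, hzE⟩
      obtain ⟨n, hn, y, hy, rfl⟩ := Submodule.mem_sup.1 hz
      obtain ⟨r, rfl⟩ := Submodule.mem_span_singleton.1 hy
      have h1 : r • N.mkQ x = π ⟨n + r • x, hzE⟩ := by
        rw [← map_smul]
        refine (Submodule.Quotient.eq N).2 ?_
        simpa using N.neg_mem hn
      have h2 := hcon r ⟨_, h1.symm⟩
      rw [h1] at h2
      have h3 := congrArg Subtype.val ((injective_iff_map_eq_zero π).1 hπ _ h2)
      exact (Submodule.mem_bot R).2 h3
    exact hle (Submodule.mem_sup_right (Submodule.mem_span_singleton_self x))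
  have hgπ : g ∘ₗ π = E.subtype := LinearMap.ext hg
  have hginj : Function.Injective g :=
    injective_of_comp_injective hess g (by rw [hgπ]; exact Subtype.val_injective)
  -- the range of `g` is an essential extension of `E`
  have hE' : LinearMap.range g = E := by
    refine h _ (fun x hx => ⟨π ⟨x, hx⟩, hg ⟨x, hx⟩⟩) fun M hM hM0 hbot => ?_
    obtain ⟨x, hxM, hx⟩ := Submodule.exists_mem_ne_zero_of_ne_bot hM0
    obtain ⟨y, rfl⟩ := hM hxM
    obtain ⟨r, e, he, hne⟩ := exists_smul_mem_range hess (fun h0 : y = 0 => hx (by rw [h0, map_zero]))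
    refine hne (hginj ?_)
    rw [map_zero]
    refine (Submodule.mem_bot R).1 (hbot.le ⟨?_, ?_⟩)
    · rw [map_smul]; exact M.smul_mem r hxM
    · rw [← he, hg]; exact e.2
  refine injective_of_retract E.subtype
    ((g ∘ₗ N.mkQ).codRestrict E fun x => hE'.le ⟨_, rfl⟩) (LinearMap.ext fun x => Subtype.ext (hg x))

/-- An injective submodule has no proper essential extension. -/
theorem eq_of_essential_of_injective (E : Submodule R Q) [Module.Injective R E] {E' : Submodule R Q}
    (hle : E ≤ E') (hess : ∀ N : Submodule R Q, N ≤ E' → N ≠ ⊥ → N ⊓ E ≠ ⊥) : E' = E := by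
  obtain ⟨ρ, hρ⟩ := Module.Injective.out (R := R) E.subtype Subtype.val_injective (LinearMap.id : E →ₗ[R] E)
  refine le_antisymm (fun x hx => ?_) hle
  by_contra hne
  refine hess (Submodule.span R {x - ρ x}) ?_ ?_ ?_
  · rw [Submodule.span_singleton_le_iff_mem]; exact sub_mem hx (hle (ρ x).2)
  · rw [Ne, Submodule.span_singleton_eq_bot, sub_eq_zero]
    exact fun h => hne (h ▸ (ρ x).2)
  · rw [eq_bot_iff]
    rintro z ⟨hz, hzE⟩
    obtain ⟨r, rfl⟩ := Submodule.mem_span_singleton.1 hz
    have h1 := hρ ⟨_, hzE⟩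
    have h2 : ρ (r • (x - ρ x)) = 0 := by
      have h3 : ρ ((ρ x : E) : Q) = ρ x := hρ (ρ x)
      rw [map_smul, map_sub, h3, sub_self, smul_zero]
    rw [Submodule.subtype_apply, h2, LinearMap.id_apply] at h1
    exact (Submodule.mem_bot R).2 (congrArg Subtype.val h1.symm)

end Injective

/-- Every module has an injective hull. -/
theorem exists_injectiveHull (M : Type u) [AddCommGroup M] [Module R M] :
    ∃ (E : Type u) (_ : AddCommGroup E) (_ : Module R E) (f : M →ₗ[R] E), IsInjectiveHull f := by
  let Q := CategoryTheory.Injective.under (ModuleCat.of R M)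
  let i : ModuleCat.of R M ⟶ Q := CategoryTheory.Injective.ι _
  have hi : Function.Injective i.hom := (ModuleCat.mono_iff_injective i).1 inferInstance
  have : CategoryTheory.Injective (ModuleCat.of R Q) :=
    (inferInstance : CategoryTheory.Injective (CategoryTheory.Injective.under (ModuleCat.of R M)))
  have : Module.Injective R Q := Module.injective_module_of_injective_object R Q
  let E₀ := LinearMap.range i.hom
  let P : Submodule R Q → Prop := fun E =>
    ∀ x ∈ E, x ≠ 0 → ∃ r : R, r • x ∈ E₀ ∧ r • x ≠ 0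
  obtain ⟨E, hle, hmax⟩ := zorn_le_nonempty₀ {E : Submodule R Q | E₀ ≤ E ∧ P E} (fun c hc hchain y hy => by
    refine ⟨sSup c, ⟨(hc hy).1.trans (le_sSup hy), fun x hx hx0 => ?_⟩, fun N hN => le_sSup hN⟩
    obtain ⟨N, hN, hxN⟩ := (Submodule.mem_sSup_of_directed ⟨y, hy⟩ hchain.directedOn).1 hx
    exact (hc hN).2 x hxN hx0) E₀ ⟨le_rfl, fun x hx hx0 => ⟨1, by rwa [one_smul], by rwa [one_smul]⟩⟩
  have hP : P E := hmax.prop.2
  have hinjE : Module.Injective R E := injective_of_no_essential E fun E' hEE' hess => by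
    refine le_antisymm (hmax.2 ⟨hle.trans hEE', fun x hx hx0 => ?_⟩ hEE') hEE'
    obtain ⟨z, ⟨hz₁, hz₂⟩, hz⟩ := Submodule.exists_mem_ne_zero_of_ne_bot
      (hess (Submodule.span R {x}) (by rwa [Submodule.span_singleton_le_iff_mem])
        (by rwa [Ne, Submodule.span_singleton_eq_bot]))
    obtain ⟨r, rfl⟩ := Submodule.mem_span_singleton.1 hz₁
    obtain ⟨s, hs, hs0⟩ := hP _ hz₂ hz
    exact ⟨s * r, by rwa [mul_smul], by rwa [mul_smul]⟩
  refine ⟨E, inferInstance, inferInstance, i.hom.codRestrict E fun m => hle ⟨m, rfl⟩,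
    { toIsEssentialInj := isEssentialInj_of_forall (fun a b h => hi (congrArg Subtype.val h)) ?_
      isInjective := hinjE }⟩
  intro x hx
  obtain ⟨r, ⟨m, hm⟩, hr0⟩ := hP x x.2 fun h => hx (Subtype.ext h)
  exact ⟨r, ⟨m, Subtype.ext hm⟩, fun h => hr0 (congrArg Subtype.val h)⟩

/-- An injective hull embeds in any injective module containing the module. -/
theorem exists_injective_extension {M E I : Type v} [AddCommGroup M] [Module R M] [AddCommGroup E]
    [Module R E] [AddCommGroup I] [Module R I] [Module.Injective R I] {f : M →ₗ[R] E}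
    (hf : IsEssentialInj f) (i : M →ₗ[R] I) (hi : Function.Injective i) :
    ∃ α : E →ₗ[R] I, Function.Injective α ∧ α ∘ₗ f = i := by
  obtain ⟨α, hα⟩ := Module.Injective.out (R := R) f hf.injective i
  exact ⟨α, injective_of_comp_injective hf α (by rw [show α ∘ₗ f = i from LinearMap.ext hα]; exact hi),
    LinearMap.ext hα⟩

/-- Injective hulls are unique. -/
theorem exists_linearEquiv {M E E' : Type v} [AddCommGroup M] [Module R M] [AddCommGroup E]
    [Module R E] [AddCommGroup E'] [Module R E'] {f : M →ₗ[R] E} {g : M →ₗ[R] E'}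
    (hf : IsInjectiveHull f) (hg : IsInjectiveHull g) : ∃ e : E ≃ₗ[R] E', e.toLinearMap ∘ₗ f = g := by
  have := hg.isInjective
  have := hf.isInjective
  obtain ⟨α, hα, hαf⟩ := exists_injective_extension hf.toIsEssentialInj g hg.injective
  have : Module.Injective R (LinearMap.range α) := by
    obtain ⟨k, hk⟩ := Module.Injective.out (R := R) α hα LinearMap.id
    exact injective_of_retract (LinearMap.range α).subtype (α.rangeRestrict ∘ₗ k)
      (LinearMap.ext fun ⟨_, y, rfl⟩ => Subtype.ext (congrArg α (hk y)))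
  have htop : (⊤ : Submodule R E') = LinearMap.range α := by
    refine eq_of_essential_of_injective _ le_top fun N _ hN hbot => hg.essential N hN ?_
    rw [eq_bot_iff]
    rintro z ⟨hzN, m, rfl⟩
    exact hbot.le ⟨hzN, f m, LinearMap.congr_fun hαf m⟩
  exact ⟨LinearEquiv.ofBijective α ⟨hα, fun x => htop.le trivial⟩, hαf⟩

section ChangeRing

variable {S : Type u} [CommRing S] [Algebra R S]

/-- Linear maps between `S`-modules over an epimorphism `R → S` are `S`-linear. -/
theorem map_smul_of_isEpi [Algebra.IsEpi R S] {X Y : Type v} [AddCommGroup X] [Module R X] [Module S X]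
    [IsScalarTower R S X] [AddCommGroup Y] [Module R Y] [Module S Y] [IsScalarTower R S Y]
    (h : X →ₗ[R] Y) (s : S) (x : X) : h (s • x) = s • h x := by
  let B : S ⊗[R] S →ₗ[R] Y := TensorProduct.lift <| LinearMap.mk₂ R (fun a b => a • h (b • x))
    (fun a a' b => add_smul a a' _) (fun r a b => smul_assoc r a _)
    (fun a b b' => by rw [add_smul, map_add, smul_add])
    (fun r a b => by rw [smul_assoc, map_smul, smul_comm])
  have := congrArg B ((Algebra.isEpi_iff_forall_one_tmul_eq R S).1 inferInstance s)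
  simpa [B] using this

/-- An `R`-linear map between `S`-modules, as an `S`-linear map. -/
def ofIsEpi [Algebra.IsEpi R S] {X Y : Type v} [AddCommGroup X] [Module R X] [Module S X]
    [IsScalarTower R S X] [AddCommGroup Y] [Module R Y] [Module S Y] [IsScalarTower R S Y]
    (h : X →ₗ[R] Y) : X →ₗ[S] Y where
  toFun := h
  map_add' := map_add h
  map_smul' := map_smul_of_isEpi h

/-- Injectivity over the source of an epimorphism implies injectivity over the target. -/
theorem injective_of_isEpi [Algebra.IsEpi R S] (E : Type v) [AddCommGroup E] [Module R E] [Module S E]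
    [IsScalarTower R S E] [Module.Injective R E] : Module.Injective S E := by
  refine ⟨fun X Y _ _ _ _ f hf g => ?_⟩
  let : Module R X := Module.compHom X (algebraMap R S)
  let : Module R Y := Module.compHom Y (algebraMap R S)
  have : IsScalarTower R S X := IsScalarTower.of_algebraMap_smul fun _ _ => rfl
  have : IsScalarTower R S Y := IsScalarTower.of_algebraMap_smul fun _ _ => rfl
  obtain ⟨h, hh⟩ := Module.Injective.out (R := R) (f.restrictScalars R) hf (g.restrictScalars R)
  exact ⟨ofIsEpi h, hh⟩

end ChangeRing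

theorem isEpi_localization (S : Submonoid R) (A : Type u) [CommRing A] [Algebra R A] [IsLocalization S A] :
    Algebra.IsEpi R A := by
  refine (Algebra.isEpi_iff_forall_one_tmul_eq R A).2 fun a => ?_
  obtain ⟨r, s, rfl⟩ := IsLocalization.exists_mk'_eq S a
  set z := IsLocalization.mk' A r s
  set w := IsLocalization.mk' A 1 s
  have hw : (s : R) • w = 1 := by rw [Algebra.smul_def]; simp [w, IsLocalization.mk'_spec']
  have hz : z = r • w := by rw [Algebra.smul_def]; simp [z, w, IsLocalization.mul_mk'_eq_mk'_of_mul]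
  rw [hz, tmul_smul, ← smul_tmul']
  congr 1
  calc (1 : A) ⊗ₜ[R] w = ((s : R) • w) ⊗ₜ[R] w := by rw [hw]
    _ = w ⊗ₜ[R] ((s : R) • w) := by rw [smul_tmul]
    _ = w ⊗ₜ[R] 1 := by rw [hw]

end Groth.Agent.InjHullLib
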