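import Mathlib
import Groth.Agent.InjHullLib.Basic

/-!
Injective modules over Noetherian rings: sums, torsion submodules, localizations, indecomposables.
-/

namespace Groth.Agent.InjHullLib

universe u

open InjHull DirectSum

variable {R : Type u} [CommRing R]

theorem injective_directSum [IsNoetherianRing R] {ι : Type u} (E : ι → Type u) [∀ i, AddCommGroup (E i)]
    [∀ i, Module R (E i)] (hE : ∀ i, Module.Injective R (E i)) : Module.Injective R (⨁ i, E i) := by
  classical
  refine Module.Baer.injective fun I φ => ?_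
  obtain ⟨s, hs⟩ := (isNoetherian_def.1 (inferInstance : IsNoetherian R I) ⊤)
  let F : Finset ι := s.biUnion fun a => (φ a).support
  have hF : ∀ (a : I) (i : ι), i ∉ F → φ a i = 0 := by
    intro a i hi
    have ha : a ∈ Submodule.span R (s : Set I) := hs ▸ trivial
    induction ha using Submodule.span_induction with
    | mem y hy =>
      by_contra h
      exact hi (Finset.mem_biUnion.2 ⟨y, hy, DFinsupp.mem_support_iff.2 h⟩)
    | zero => rw [map_zero]; rfl
    | add u v _ _ hu hv => rw [map_add, DirectSum.add_apply, hu, hv, add_zero]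
    | smul r u _ hu => rw [map_smul, DFinsupp.smul_apply, hu, smul_zero]
  have hext : ∀ i, ∃ h : R →ₗ[R] E i, ∀ a : I, h (a : R) = φ a i := fun i =>
    (hE i).out I.subtype Subtype.val_injective ((DirectSum.component R ι E i) ∘ₗ φ)
  choose h hh using hext
  let x : ⨁ i, E i := DFinsupp.mk F fun i => h i 1
  refine ⟨LinearMap.toSpanSingleton R _ x, fun a ha => DFinsupp.ext fun i => ?_⟩
  rw [LinearMap.toSpanSingleton_apply, DFinsupp.smul_apply]
  have hi' := hh i ⟨a, ha⟩
  by_cases hi : i ∈ F
  · rw [show x i = h i 1 from by simp [x, DFinsupp.mk_apply, hi], ← map_smul, smul_eq_mul, mul_one]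
    exact hi'
  · rw [show x i = 0 from by simp [x, DFinsupp.mk_apply, hi], smul_zero, hF ⟨a, ha⟩ i hi]

/-- Baer's criterion for `J`-power torsion modules only needs modules killed by a power of `J`. -/
theorem injective_of_powerTorsion [IsNoetherianRing R] (J : Ideal R) {H : Type u} [AddCommGroup H]
    [Module R H] (hH : LocCoh.IsPowerTorsion J H)
    (hext : ∀ (n : ℕ) (N : Submodule R (R ⧸ J ^ n)) (g : N →ₗ[R] H),
      ∃ g' : (R ⧸ J ^ n) →ₗ[R] H, g' ∘ₗ N.subtype = g) : Module.Injective R H := by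
  classical
  refine Module.Baer.injective fun I φ => ?_
  obtain ⟨s, hs⟩ := (isNoetherian_def.1 (inferInstance : IsNoetherian R I) ⊤)
  choose e he using fun a : I => hH (φ a)
  set n := s.sup e
  have hkill : ∀ r ∈ J ^ n, ∀ a : I, r • φ a = 0 := by
    intro r hr a
    have ha : a ∈ Submodule.span R (s : Set I) := hs ▸ trivial
    induction ha using Submodule.span_induction with
    | mem y hy => exact he y r (Ideal.pow_le_pow_right (Finset.le_sup hy) hr)
    | zero => rw [map_zero, smul_zero]
    | add u v _ _ hu hv => rw [map_add, smul_add, hu, hv, add_zero]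
    | smul c u _ hu => rw [map_smul, smul_comm, hu, smul_zero]
  obtain ⟨k, hk⟩ := Ideal.exists_pow_inf_eq_pow_smul J (I : Submodule R R)
  set m := n + k
  let f : I →ₗ[R] R ⧸ J ^ m := Submodule.mkQ (J ^ m) ∘ₗ I.subtype
  have hker : LinearMap.ker f ≤ LinearMap.ker φ := by
    intro a ha
    have h1 : (a : R) ∈ J ^ m • (⊤ : Submodule R R) ⊓ I :=
      ⟨by rw [smul_eq_mul, Ideal.mul_top]; exact (Submodule.Quotient.mk_eq_zero _).1 ha, a.2⟩
    rw [hk m (Nat.le_add_left k n), show m - k = n from Nat.add_sub_cancel n k] at h1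
    have h2 : (a : R) ∈ J ^ n • (I : Submodule R R) := Submodule.smul_mono le_rfl inf_le_right h1
    have h3 : a ∈ J ^ n • (⊤ : Submodule R I) := by
      have : Submodule.map I.subtype (J ^ n • ⊤) = J ^ n • (I : Submodule R R) := by
        rw [Submodule.map_smul'', Submodule.map_top, Submodule.range_subtype]
      rw [← this] at h2
      obtain ⟨b, hb, hba⟩ := h2
      rwa [← Subtype.ext hba]
    rw [LinearMap.mem_ker]
    refine Submodule.smul_induction_on h3 (fun r hr b _ => by rw [map_smul, hkill r hr]) fun u v hu hv => by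
      rw [map_add, hu, hv, add_zero]
  let ψ : LinearMap.range f →ₗ[R] H :=
    Submodule.liftQ _ φ hker ∘ₗ f.quotKerEquivRange.symm.toLinearMap
  obtain ⟨g', hg'⟩ := hext m (LinearMap.range f) ψ
  refine ⟨g' ∘ₗ Submodule.mkQ (J ^ m), fun a ha => ?_⟩
  have h1 := LinearMap.congr_fun hg' ⟨f ⟨a, ha⟩, LinearMap.mem_range_self f _⟩
  refine h1.trans ?_
  change Submodule.liftQ _ φ hker (f.quotKerEquivRange.symm _) = _
  rw [show (⟨f ⟨a, ha⟩, LinearMap.mem_range_self f _⟩ : LinearMap.range f) =
    f.quotKerEquivRange (Submodule.Quotient.mk ⟨a, ha⟩) from Subtype.ext rfl,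
    LinearEquiv.symm_apply_apply, Submodule.liftQ_apply]

theorem mem_iSup_torsion (J : Ideal R) {I : Type u} [AddCommGroup I] [Module R I] (x : I) :
    x ∈ (⨆ n : ℕ, Submodule.torsionBySet R I ((J ^ n : Ideal R) : Set R)) ↔
      ∃ n, ∀ r ∈ J ^ n, r • x = 0 := by
  rw [Submodule.mem_iSup_of_directed]
  · simp [Submodule.mem_torsionBySet_iff]
  · refine Monotone.directed_le fun i j hij y hy => ?_
    rw [Submodule.mem_torsionBySet_iff] at hy ⊢
    exact fun r => hy ⟨r, Ideal.pow_le_pow_right hij r.2⟩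

theorem injective_torsion [IsNoetherianRing R] (I : Type u) [AddCommGroup I] [Module R I]
    [Module.Injective R I] (J : Ideal R) :
    Module.Injective R ↥(⨆ n : ℕ, Submodule.torsionBySet R I ((J ^ n : Ideal R) : Set R)) := by
  refine injective_of_powerTorsion J (fun x => ?_) fun n N g => ?_
  · obtain ⟨n, hn⟩ := (mem_iSup_torsion J _).1 x.2
    exact ⟨n, fun a ha => Subtype.ext (hn a ha)⟩
  · obtain ⟨h, hh⟩ := Module.Injective.out (R := R) N.subtype Subtype.val_injective
      ((⨆ n : ℕ, Submodule.torsionBySet R I ((J ^ n : Ideal R) : Set R)).subtype ∘ₗ g)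
    have hmem : ∀ y, h y ∈ ⨆ n : ℕ, Submodule.torsionBySet R I ((J ^ n : Ideal R) : Set R) := fun y => by
      refine (mem_iSup_torsion J _).2 ⟨n, fun r hr => ?_⟩
      rw [← map_smul]
      obtain ⟨y, rfl⟩ := Submodule.Quotient.mk_surjective _ y
      rw [← Submodule.Quotient.mk_smul,
        (Submodule.Quotient.mk_eq_zero _).2 (show r • y ∈ J ^ n from Ideal.mul_mem_right _ _ hr), map_zero]
    exact ⟨h.codRestrict _ hmem, LinearMap.ext fun y => Subtype.ext (hh y)⟩

section Indecomposable

variable {E : Type u} [AddCommGroup E] [Module R E]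

/-- In an indecomposable injective every nonzero submodule is essential. -/
theorem inf_ne_bot_of_indecomposable (hE : IsIndecomposable R E) [Module.Injective R E]
    {N N' : Submodule R E} (hN : N ≠ ⊥) (hN' : N' ≠ ⊥) : N ⊓ N' ≠ ⊥ := by
  obtain ⟨H, _, _, j, hj⟩ := exists_injectiveHull (R := R) N
  obtain ⟨α, hα, hαj⟩ := exists_injective_extension hj.toIsEssentialInj N.subtype Subtype.val_injective
  have := hj.isInjective
  obtain ⟨k, hk⟩ := Module.Injective.out (R := R) α hα LinearMap.id
  have hc : IsCompl (LinearMap.range α) (LinearMap.ker (α.rangeRestrict ∘ₗ k)) :=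
    LinearMap.isCompl_of_proj fun ⟨_, y, hy⟩ => by subst hy; exact Subtype.ext (congrArg α (hk y))
  have hbot : LinearMap.ker (α.rangeRestrict ∘ₗ k) = ⊥ :=
    (hE.2 _ _ hc).resolve_left fun h => hN <| by
      rw [eq_bot_iff, ← h]
      exact fun x hx => ⟨j ⟨x, hx⟩, LinearMap.congr_fun hαj ⟨x, hx⟩⟩
  have htop : LinearMap.range α = ⊤ := eq_top_of_isCompl_bot (hbot ▸ hc)
  intro h
  refine hj.essential (N'.comap α) (fun h' => hN' (eq_bot_iff.2 fun x hx => ?_)) (eq_bot_iff.2 ?_)
  · obtain ⟨y, rfl⟩ : x ∈ LinearMap.range α := htop.ge Submodule.mem_top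
    rw [show y = 0 from (Submodule.mem_bot R).1 (h'.le hx), map_zero]; exact zero_mem _
  · rintro _ ⟨hz, n, rfl⟩
    refine (Submodule.mem_bot R).2 (hα ?_)
    have hn : α (j n) = (n : E) := LinearMap.congr_fun hαj n
    rw [map_zero, (Submodule.mem_bot R).1 (h.le ⟨hn ▸ n.2, hz⟩)]

theorem isIndecomposable_of_hull_quotient_prime (p : Ideal R) [p.IsPrime] {f : (R ⧸ p) →ₗ[R] E}
    (hf : IsEssentialInj f) : IsIndecomposable R E := by
  refine ⟨⟨f 1, 0, fun h => ?_⟩, fun N N' hc => ?_⟩
  · exact one_ne_zero ((injective_iff_map_eq_zero f).1 hf.injective _ h)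
  by_contra hcon
  push Not at hcon
  obtain ⟨z, ⟨hzN, a, rfl⟩, hz⟩ := Submodule.exists_mem_ne_zero_of_ne_bot (hf.essential N hcon.1)
  obtain ⟨w, ⟨hwN, b, rfl⟩, hw⟩ := Submodule.exists_mem_ne_zero_of_ne_bot (hf.essential N' hcon.2)
  obtain ⟨r, rfl⟩ := Ideal.Quotient.mk_surjective a
  obtain ⟨s, rfl⟩ := Ideal.Quotient.mk_surjective b
  have h1 : s • Ideal.Quotient.mk p r = r • Ideal.Quotient.mk p s := by
    change Ideal.Quotient.mk p (s * r) = Ideal.Quotient.mk p (r * s)
    rw [mul_comm]
  have hmem : f (s • Ideal.Quotient.mk p r) ∈ N ⊓ N' :=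
    ⟨by rw [map_smul]; exact N.smul_mem _ hzN, by rw [h1, map_smul]; exact N'.smul_mem _ hwN⟩
  rw [hc.inf_eq_bot, Submodule.mem_bot] at hmem
  have h2 := (injective_iff_map_eq_zero f).1 hf.injective _ hmem
  change Ideal.Quotient.mk p s * Ideal.Quotient.mk p r = 0 at h2
  rcases mul_eq_zero.1 h2 with h | h
  · exact hw (by rw [h, map_zero])
  · exact hz (by rw [h, map_zero])

/-- The hull of `R ⧸ p` is the hull of `κ(p)`. -/
theorem exists_hull_residueField (p : Ideal R) [p.IsPrime] {f : (R ⧸ p) →ₗ[R] E}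
    (hf : IsInjectiveHull f) : ∃ g : p.ResidueField →ₗ[R] E, IsInjectiveHull g := by
  have := hf.isInjective
  let j : (R ⧸ p) →ₗ[R] p.ResidueField := (IsScalarTower.toAlgHom R (R ⧸ p) p.ResidueField).toLinearMap
  have hj : Function.Injective j := IsFractionRing.injective (R ⧸ p) p.ResidueField
  have hje : IsEssentialInj j := by
    refine isEssentialInj_of_forall hj fun x hx => ?_
    obtain ⟨a, b, hb, rfl⟩ := IsFractionRing.div_surjective (R ⧸ p) x
    obtain ⟨s, rfl⟩ := Ideal.Quotient.mk_surjective b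
    have hs : algebraMap R p.ResidueField s ≠ 0 := by
      rw [IsScalarTower.algebraMap_apply R (R ⧸ p) p.ResidueField]
      exact fun h => nonZeroDivisors.ne_zero hb ((injective_iff_map_eq_zero _).1 hj _ h)
    refine ⟨s, ⟨a, ?_⟩, smul_ne_zero' hs hx⟩
    rw [Algebra.smul_def, IsScalarTower.algebraMap_apply R (R ⧸ p) p.ResidueField]
    have hs' : algebraMap (R ⧸ p) p.ResidueField (Ideal.Quotient.mk p s) ≠ 0 := fun h =>
      nonZeroDivisors.ne_zero hb ((injective_iff_map_eq_zero _).1 hj _ h)
    exact (mul_div_cancel₀ _ hs').symm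
  obtain ⟨g, hg⟩ := Module.Injective.out (R := R) j hj f
  refine ⟨g, { injective := injective_of_comp_injective hje g
                  (by rw [show g ∘ₗ j = f from LinearMap.ext hg]; exact hf.injective)
               essential := fun N hN hbot => hf.essential N hN ?_
               isInjective := inferInstance }⟩
  rw [eq_bot_iff]
  rintro z ⟨hz, a, rfl⟩
  exact hbot.le ⟨hz, j a, hg a⟩
where
  smul_ne_zero' {s : R} {x : p.ResidueField} (hs : algebraMap R p.ResidueField s ≠ 0) (hx : x ≠ 0) :
      s • x ≠ 0 := by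
    rw [Algebra.smul_def]; exact mul_ne_zero hs hx

theorem exists_injective_quotient_prime [IsNoetherianRing R] [Nontrivial E] :
    ∃ (p : Ideal R) (_ : p.IsPrime) (f : (R ⧸ p) →ₗ[R] E), Function.Injective f := by
  obtain ⟨p, hp⟩ := associatedPrimes.nonempty R E
  obtain ⟨h1, h2⟩ := (isAssociatedPrime_iff_exists_injective_linearMap p E).1 hp
  exact ⟨p, h1, h2⟩

end Indecomposable

section Localization

variable [IsNoetherianRing R] (S : Submonoid R) (E : Type u) [AddCommGroup E] [Module R E]

theorem injective_localizedModule [Module.Injective R E] :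
    Module.Injective R (LocalizedModule S E) := by
  refine Module.Baer.injective fun I φ => ?_
  have : Module.FinitePresentation R I := Module.finitePresentation_of_finite R I
  set ι := LocalizedModule.mkLinearMap S E
  obtain ⟨h, s, hs⟩ := Module.FinitePresentation.exists_lift_of_isLocalizedModule S ι φ
  obtain ⟨k, hk⟩ := Module.Injective.out (R := R) I.subtype Subtype.val_injective h
  refine ⟨LinearMap.toSpanSingleton R _ (IsLocalizedModule.mk' ι (k 1) s), fun a ha => ?_⟩
  rw [LinearMap.toSpanSingleton_apply, ← IsLocalizedModule.mk'_smul, ← map_smul, smul_eq_mul, mul_one,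
    IsLocalizedModule.mk'_eq_iff, show k a = h ⟨a, ha⟩ from hk ⟨a, ha⟩]
  exact LinearMap.congr_fun hs ⟨a, ha⟩

variable {S E}

/-- Localization preserves essential submodules. -/
theorem exists_smul_of_essential {M : Type u} [AddCommGroup M] [Module R M] (N : Submodule R M)
    (hN : ∀ N' : Submodule R M, N' ≠ ⊥ → N' ⊓ N ≠ ⊥) (x : M)
    (hx : LocalizedModule.mkLinearMap S M x ≠ 0) :
    ∃ r : R, r • x ∈ N ∧ LocalizedModule.mkLinearMap S M (r • x) ≠ 0 := by
  classical
  let ann : S → Ideal R := fun s => LinearMap.ker (LinearMap.toSpanSingleton R M ((s : R) • x))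
  obtain ⟨_, ⟨s, rfl⟩, hmax⟩ := set_has_maximal_iff_noetherian.2
    (inferInstance : IsNoetherian R R) (Set.range ann) ⟨_, 1, rfl⟩
  by_contra hcon
  push Not at hcon
  have hne : (s : R) • x ≠ 0 := fun h => hx <|
    (IsLocalizedModule.eq_zero_iff S _).2 ⟨s, h⟩
  let I : Ideal R := N.comap (LinearMap.toSpanSingleton R M ((s : R) • x))
  obtain ⟨G, hG⟩ := (IsNoetherian.noetherian I)
  have hloc : ∀ r ∈ I, ∃ t : S, (t : R) • r • (s : R) • x = 0 := by
    intro r hr
    have := hcon (r * s) (by rw [mul_smul]; exact hr)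
    obtain ⟨t, ht⟩ := (IsLocalizedModule.eq_zero_iff S _).1 this
    exact ⟨t, by rw [← mul_smul r (s : R) x]; exact ht⟩
  choose t ht using hloc
  let T : S := ∏ r ∈ G.attach, t r.1 (hG.le (Submodule.subset_span r.2))
  have hkill : ∀ r ∈ G, (T : R) • r • (s : R) • x = 0 := by
    intro r hr
    obtain ⟨c, hc⟩ : t r (hG.le (Submodule.subset_span hr)) ∣ T :=
      Finset.dvd_prod_of_mem (fun r : G => t r.1 (hG.le (Submodule.subset_span r.2)))
        (Finset.mem_attach G ⟨r, hr⟩)
    rw [hc, Submonoid.coe_mul, mul_comm, mul_smul, ht, smul_zero]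
  have hle : ann s ≤ ann (T * s) := fun r hr => by
    change r • ((T : R) * (s : R)) • x = 0
    rw [mul_smul, smul_comm, show r • (s : R) • x = 0 from hr, smul_zero]
  have heq : ann (T * s) ≤ ann s := by
    by_contra h
    exact hmax _ ⟨T * s, rfl⟩ (lt_of_le_not_ge hle h)
  refine hN (Submodule.span R {(s : R) • x}) (by rwa [Ne, Submodule.span_singleton_eq_bot]) ?_
  rw [eq_bot_iff]
  rintro z ⟨hz, hzN⟩
  obtain ⟨r, rfl⟩ := Submodule.mem_span_singleton.1 hz
  have hr : r ∈ I := hzN
  rw [← hG] at hr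
  rw [Submodule.mem_bot]
  clear hz hzN
  induction hr using Submodule.span_induction with
  | mem a ha =>
    exact heq (show a • ((T : R) * (s : R)) • x = 0 by rw [mul_smul, smul_comm]; exact hkill a ha)
  | zero => rw [zero_smul]
  | add a b _ _ ha hb => rw [add_smul, ha, hb, add_zero]
  | smul c a _ ha => rw [smul_eq_mul, mul_smul, ha, smul_zero]

end Localization

end Groth.Agent.InjHullLib
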