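import Mathlib
import Groth.Agent.InjHullLib.Noetherian

/-!
Matlis duality over a Noetherian local ring, and criteria for being an injective hull of the residue field.
-/

namespace Groth.Agent.InjHullLib

universe u

open InjHull IsLocalRing LocCoh

section Nilpotent

variable {R : Type u} [CommRing R] [IsNoetherianRing R] {E : Type u} [AddCommGroup E] [Module R E]

/-- In an essential extension of `R ⧸ p` the elements of `p` act locally nilpotently. -/
theorem exists_pow_smul_eq_zero (p : Ideal R) {f : (R ⧸ p) →ₗ[R] E} (hf : IsEssentialInj f)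
    {s : R} (hs : s ∈ p) (x : E) : ∃ n : ℕ, s ^ n • x = 0 := by
  let A : ℕ →o Ideal R := ⟨fun n => LinearMap.ker (LinearMap.toSpanSingleton R E (s ^ n • x)), fun i j hij r hr => by
    rw [LinearMap.mem_ker, LinearMap.toSpanSingleton_apply] at hr ⊢
    obtain ⟨k, rfl⟩ := Nat.exists_eq_add_of_le hij
    rw [pow_add, mul_comm, mul_smul, smul_comm, hr, smul_zero]⟩
  obtain ⟨n, hn⟩ := (monotone_stabilizes_iff_noetherian.2 inferInstance : ∀ f : ℕ →o Ideal R, _) A
  refine ⟨n, ?_⟩
  by_contra hne
  obtain ⟨r, y, hy, hry⟩ := exists_smul_mem_range hf hne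
  obtain ⟨y, rfl⟩ := Ideal.Quotient.mk_surjective y
  have h1 : r ∈ A (n + 1) := by
    change r • (s ^ (n + 1) • x) = 0
    rw [pow_succ', mul_smul, smul_comm, ← hy, ← map_smul]
    have : s • (Ideal.Quotient.mk p y) = 0 := by
      change Ideal.Quotient.mk p (s * y) = 0
      exact Ideal.Quotient.eq_zero_iff_mem.2 (p.mul_mem_right y hs)
    rw [this, map_zero]
  rw [← hn (n + 1) (Nat.le_succ n)] at h1
  exact hry h1

theorem isPowerTorsion_of_hull (p : Ideal R) {f : (R ⧸ p) →ₗ[R] E} (hf : IsEssentialInj f) :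
    IsPowerTorsion p E := by
  intro x
  let A : Ideal R := LinearMap.ker (LinearMap.toSpanSingleton R E x)
  have hA : p ≤ A.radical := fun s hs => by
    obtain ⟨n, hn⟩ := exists_pow_smul_eq_zero p hf hs x
    exact ⟨n, hn⟩
  obtain ⟨n, hn⟩ := Ideal.exists_pow_le_of_le_radical_of_fg hA (IsNoetherian.noetherian p)
  exact ⟨n, fun a ha => hn ha⟩

end Nilpotent

section Local

variable {R : Type u} [CommRing R] [IsLocalRing R] {E : Type u} [AddCommGroup E] [Module R E]
  {f : ResidueField R →ₗ[R] E}

theorem residue_smul_one (r : R) : r • (1 : ResidueField R) = residue R r := by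
  rw [Algebra.smul_def, mul_one]; rfl

theorem smul_eq_zero_of_mem_range {x : E} (hx : x ∈ LinearMap.range f) {r : R} (hr : r ∈ maximalIdeal R) :
    r • x = 0 := by
  obtain ⟨c, rfl⟩ := hx
  rw [← map_smul, Algebra.smul_def, show algebraMap R (ResidueField R) r = 0 from
    Ideal.Quotient.eq_zero_iff_mem.2 hr, zero_mul, map_zero]

/-- The socle of a hull of the residue field. -/
theorem mem_range_iff (hf : IsEssentialInj f) {x : E} :
    x ∈ LinearMap.range f ↔ ∀ r ∈ maximalIdeal R, r • x = 0 := by
  refine ⟨fun hx r hr => smul_eq_zero_of_mem_range hx hr, fun h => ?_⟩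
  by_cases hx : x = 0
  · exact hx ▸ zero_mem _
  obtain ⟨r, y, hy, hne⟩ := exists_smul_mem_range hf hx
  have hu : IsUnit r := by
    by_contra hr
    exact hne (h r hr)
  obtain ⟨u, rfl⟩ := hu
  exact ⟨(↑u⁻¹ : R) • y, by rw [map_smul, hy, smul_smul, Units.inv_mul, one_smul]⟩

/-- The dual of the residue field. -/
theorem exists_residueField_dual_equiv (hf : IsEssentialInj f) :
    Nonempty (ResidueField R ≃ₗ[R] (ResidueField R →ₗ[R] E)) := by
  let φ : ResidueField R →ₗ[R] (ResidueField R →ₗ[R] E) :=
    (LinearMap.llcomp R (ResidueField R) (ResidueField R) E f) ∘ₗ LinearMap.mul R (ResidueField R)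
  refine ⟨LinearEquiv.ofBijective φ ⟨(injective_iff_map_eq_zero φ).2 fun c hc => ?_, fun h => ?_⟩⟩
  · have := LinearMap.congr_fun hc 1
    simp only [φ, LinearMap.comp_apply, LinearMap.llcomp_apply, LinearMap.mul_apply', mul_one,
      LinearMap.zero_apply] at this
    exact hf.injective (this.trans (map_zero f).symm)
  · obtain ⟨c, hc⟩ := (mem_range_iff hf).2 fun r hr => show r • h 1 = 0 by
      rw [← map_smul, residue_smul_one, show residue R r = 0 from Ideal.Quotient.eq_zero_iff_mem.2 hr, map_zero]
    refine ⟨c, LinearMap.ext fun y => ?_⟩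
    obtain ⟨r, rfl⟩ := residue_surjective y
    rw [← residue_smul_one r, map_smul, map_smul]
    congr 1
    simp only [φ, LinearMap.comp_apply, LinearMap.llcomp_apply, LinearMap.mul_apply', mul_one, hc]

theorem isSimpleModule_dual_residueField (hf : IsEssentialInj f) :
    IsSimpleModule R (ResidueField R →ₗ[R] E) := by
  obtain ⟨e⟩ := exists_residueField_dual_equiv hf
  exact isSimpleModule_iff_quot_maximal.2 ⟨maximalIdeal R, inferInstance, ⟨e.symm⟩⟩

theorem exists_ne_zero (hf : IsInjectiveHull f) {M : Type u} [AddCommGroup M] [Module R M] {x : M}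
    (hx : x ≠ 0) : ∃ h : M →ₗ[R] E, h x ≠ 0 := by
  let t := LinearMap.toSpanSingleton R M x
  have hle : LinearMap.ker t ≤ maximalIdeal R := IsLocalRing.le_maximalIdeal fun h => hx <| by
    have : (1 : R) ∈ LinearMap.ker t := h.ge Submodule.mem_top
    simpa [t] using this
  let t' : (R ⧸ LinearMap.ker t) →ₗ[R] M := Submodule.liftQ _ t le_rfl
  let g : (R ⧸ LinearMap.ker t) →ₗ[R] E := f ∘ₗ Submodule.factor hle
  obtain ⟨h, hh⟩ := hf.isInjective.out t' (LinearMap.ker_eq_bot.1 (Submodule.ker_liftQ_eq_bot _ _ _ le_rfl)) g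
  refine ⟨h, fun h0 => ?_⟩
  have h1 := hh (Submodule.Quotient.mk 1)
  have h2 : t' (Submodule.Quotient.mk 1) = x := by change t 1 = x; simp [t]
  rw [h2, h0] at h1
  refine one_ne_zero (α := ResidueField R) (hf.injective ?_)
  rw [map_zero]
  exact h1.symm

/-- Evaluation into the double dual is injective. -/
theorem eval_injective (hf : IsInjectiveHull f) (M : Type u) [AddCommGroup M] [Module R M] :
    Function.Injective (LinearMap.applyₗ : M →ₗ[R] (M →ₗ[R] E) →ₗ[R] E) :=
  (injective_iff_map_eq_zero _).2 fun x hx => by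
    by_contra hne
    obtain ⟨h, hh⟩ := exists_ne_zero hf hne
    exact hh (LinearMap.congr_fun hx h)

/-- The dual preserves length. -/
theorem length_dual (hf : IsInjectiveHull f) {M : Type u} [AddCommGroup M] [Module R M]
    (hM : IsFiniteLength R M) : Module.length R (M →ₗ[R] E) = Module.length R M := by
  induction hM with
  | @of_subsingleton M _ _ _ =>
    have : Subsingleton (M →ₗ[R] E) := ⟨fun a b => LinearMap.ext fun x => by
      rw [Subsingleton.elim x 0, map_zero, map_zero]⟩
    rw [Module.length_eq_zero, Module.length_eq_zero]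
  | @of_simple_quotient M _ _ N hN hlen ih =>
    obtain ⟨I, hI, ⟨e⟩⟩ := isSimpleModule_iff_quot_maximal.1 hN
    obtain rfl := IsLocalRing.eq_maximalIdeal hI
    obtain ⟨d⟩ := exists_residueField_dual_equiv hf.toIsEssentialInj
    have hq : Module.length R ((M ⧸ N) →ₗ[R] E) = 1 := by
      have := isSimpleModule_dual_residueField hf.toIsEssentialInj
      rw [(LinearEquiv.congrLeft E R e.symm).symm.length_eq]
      exact Module.length_eq_one R (ResidueField R →ₗ[R] E)
    have h1 : Module.length R (M ⧸ N) = 1 := Module.length_eq_one R _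
    rw [Module.length_eq_add_of_exact N.subtype N.mkQ Subtype.val_injective N.mkQ_surjective
        (LinearMap.exact_subtype_mkQ N),
      Module.length_eq_add_of_exact (LinearMap.lcomp R E N.mkQ) (LinearMap.lcomp R E N.subtype)
        (LinearMap.lcomp_injective_of_surjective _ N.mkQ_surjective) (fun g => by
          obtain ⟨h, hh⟩ := hf.isInjective.out N.subtype Subtype.val_injective g
          exact ⟨h, LinearMap.ext hh⟩) (fun g => ⟨fun hg => by
            have hle : N ≤ LinearMap.ker g := fun x hx => LinearMap.congr_fun hg ⟨x, hx⟩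
            exact ⟨Submodule.liftQ N g hle, Submodule.liftQ_mkQ N g hle⟩, fun ⟨h, hh⟩ => by
            subst hh
            exact LinearMap.ext fun x => by
              simp only [LinearMap.lcomp_apply, LinearMap.zero_apply, Submodule.subtype_apply,
                Submodule.mkQ_apply, (Submodule.Quotient.mk_eq_zero N).2 x.2, map_zero]⟩),
      hq, h1, ih, add_comm]

/-- An injective map between modules of the same finite length is surjective. -/
theorem surjective_of_injective_of_length {A B : Type u} [AddCommGroup A] [Module R A] [AddCommGroup B]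
    [Module R B] (g : A →ₗ[R] B) (hg : Function.Injective g) (hA : IsFiniteLength R A)
    (hle : Module.length R B ≤ Module.length R A) : Function.Surjective g := by
  have h := Module.length_eq_add_of_exact g (LinearMap.range g).mkQ hg (Submodule.mkQ_surjective _)
    (LinearMap.exact_map_mkQ_range g)
  have h0 : Module.length R (B ⧸ LinearMap.range g) = 0 := by
    refine nonpos_iff_eq_zero.1 ((ENat.add_le_add_iff_left (Module.length_ne_top_iff.2 hA)).1 ?_)
    rw [add_zero, ← h]
    exact hle
  rw [Module.length_eq_zero_iff, Submodule.Quotient.subsingleton_iff] at h0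
  exact LinearMap.range_eq_top.1 h0

/-- Modules of finite length are reflexive. -/
theorem eval_bijective_of_isFiniteLength (hf : IsInjectiveHull f) {M : Type u} [AddCommGroup M] [Module R M]
    (hM : IsFiniteLength R M) :
    Function.Bijective (LinearMap.applyₗ : M →ₗ[R] (M →ₗ[R] E) →ₗ[R] E) := by
  refine ⟨eval_injective hf M, surjective_of_injective_of_length _ (eval_injective hf M) hM ?_⟩
  have hD : IsFiniteLength R (M →ₗ[R] E) := by
    rw [← Module.length_ne_top_iff, length_dual hf hM, Module.length_ne_top_iff]; exact hM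
  rw [length_dual hf hD, length_dual hf hM]

variable [IsNoetherianRing R]

theorem isFiniteLength_quot {I : Ideal R} {n : ℕ} (h : maximalIdeal R ^ n ≤ I) : IsFiniteLength R (R ⧸ I) := by
  have : Ring.KrullDimLE 0 (R ⧸ I) := Ring.KrullDimLE.mk₀ fun P hP => by
    have hle : maximalIdeal R ≤ P.comap (Ideal.Quotient.mk I) := by
      intro x hx
      refine (hP.comap _).mem_of_pow_mem n ?_
      rw [Ideal.mem_comap, Ideal.Quotient.eq_zero_iff_mem.2 (h (Ideal.pow_mem_pow hx n))]
      exact zero_mem _
    have hm : (P.comap (Ideal.Quotient.mk I)).IsMaximal := by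
      rw [← (maximalIdeal.isMaximal R).eq_of_le (hP.comap _).ne_top hle]; infer_instance
    rw [← Ideal.map_comap_of_surjective _ Ideal.Quotient.mk_surjective P]
    exact (Ideal.map_eq_top_or_isMaximal_of_surjective _ Ideal.Quotient.mk_surjective hm).resolve_left
      (by rw [Ideal.map_comap_of_surjective _ Ideal.Quotient.mk_surjective P]; exact hP.ne_top)
  have : IsArtinianRing (R ⧸ I) := isArtinianRing_iff_isNoetherianRing_krullDimLE_zero.2 ⟨inferInstance, this⟩
  have : IsArtinian R (R ⧸ I) :=
    isArtinian_of_surjective_algebraMap (R := R ⧸ I) (M := R ⧸ I) Ideal.Quotient.mk_surjective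
  exact isFiniteLength_iff_isNoetherian_isArtinian.2 ⟨inferInstance, this⟩

variable (hf : IsInjectiveHull f)
include hf

theorem mem_pow_of_forall {n : ℕ} {r : R}
    (h : ∀ x : E, (∀ a ∈ maximalIdeal R ^ n, a • x = 0) → r • x = 0) : r ∈ maximalIdeal R ^ n := by
  rw [← Ideal.Quotient.eq_zero_iff_mem]
  by_contra hne
  obtain ⟨g, hg⟩ := exists_ne_zero hf (M := R ⧸ maximalIdeal R ^ n) hne
  refine hg ?_
  have h1 : r • (Ideal.Quotient.mk (maximalIdeal R ^ n) 1) = Ideal.Quotient.mk (maximalIdeal R ^ n) r :=
    congrArg (Ideal.Quotient.mk _) (mul_one r)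
  rw [← h1, map_smul]
  refine h _ fun a ha => ?_
  rw [← map_smul, show a • (Ideal.Quotient.mk (maximalIdeal R ^ n) 1) = 0 from
    Ideal.Quotient.eq_zero_iff_mem.2 (Ideal.mul_mem_right _ _ ha), map_zero]

theorem exists_scalar (h : Module.End R E) (n : ℕ) :
    ∃ r : R, ∀ x : E, (∀ a ∈ maximalIdeal R ^ n, a • x = 0) → h x = r • x := by
  let M := R ⧸ maximalIdeal R ^ n
  let Φ : (M →ₗ[R] E) →ₗ[R] E := h ∘ₗ LinearMap.applyₗ (Ideal.Quotient.mk (maximalIdeal R ^ n) 1)
  obtain ⟨m, hm⟩ := (eval_bijective_of_isFiniteLength hf (isFiniteLength_quot (le_refl _))).2 Φ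
  obtain ⟨r, rfl⟩ := Ideal.Quotient.mk_surjective m
  refine ⟨r, fun x hx => ?_⟩
  let g : M →ₗ[R] E := Submodule.liftQ _ (LinearMap.toSpanSingleton R E x) fun a ha => hx a ha
  have hg : ∀ a : R, g (Ideal.Quotient.mk (maximalIdeal R ^ n) a) = a • x := fun a => rfl
  have := LinearMap.congr_fun hm g
  simp only [Φ, LinearMap.applyₗ_apply_apply, LinearMap.comp_apply, hg, one_smul] at this
  exact this.symm

/-- `End E` is the completion of `R`. -/
theorem exists_endEquiv :
    Nonempty (Module.End R E ≃ₐ[R] AdicCompletion (maximalIdeal R) R) := by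
  classical
  set m := maximalIdeal R
  have htor : IsPowerTorsion m E := isPowerTorsion_of_hull m hf.toIsEssentialInj
  have hl : ∀ (a : AdicCompletion m R) (n : ℕ), ∃ r : R, AdicCompletion.evalₐ m n a = Ideal.Quotient.mk _ r :=
    fun a n => ⟨_, (Ideal.Quotient.mk_surjective _).choose_spec.symm⟩
  choose c hc using hl
  choose e he using htor
  -- two approximations agree where both are meaningful
  have agree : ∀ (a : AdicCompletion m R) (n n' : ℕ) (r : R) (x : E), n ≤ n' →
      (∀ b ∈ m ^ n, b • x = 0) → AdicCompletion.evalₐ m n' a = Ideal.Quotient.mk _ r →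
      r • x = c a n • x := by
    intro a n n' r x hnn' hx hr
    rw [← sub_eq_zero, ← sub_smul]
    refine hx _ ?_
    rw [← Ideal.Quotient.eq, ← hc a n]
    obtain ⟨a', rfl⟩ := AdicCompletion.mk_surjective m R a
    rw [AdicCompletion.evalₐ_mk] at hr ⊢
    rw [Ideal.Quotient.eq] at hr ⊢
    have h1 : a'.val n' - a'.val n ∈ m ^ n := by
      have := a'.property hnn'
      rw [SModEq.sub_mem] at this
      rw [← neg_sub]
      exact neg_mem (by simpa using this)
    have h2 : a'.val n' - r ∈ m ^ n := Ideal.pow_le_pow_right hnn' hr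
    rw [show r - a'.val n = (a'.val n' - a'.val n) - (a'.val n' - r) by ring]
    exact sub_mem h1 h2
  have act : ∀ (a : AdicCompletion m R) (n : ℕ) (r : R) (x : E), (∀ b ∈ m ^ n, b • x = 0) →
      AdicCompletion.evalₐ m n a = Ideal.Quotient.mk _ r → c a (e x) • x = r • x := by
    intro a n r x hx hr
    rcases le_total (e x) n with h | h
    · exact (agree a _ n r x h (he x) hr).symm
    · rw [agree a n (e x) _ x h hx (hc a _), agree a n n r x le_rfl hx hr]
  let Φ : AdicCompletion m R → Module.End R E := fun a =>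
    { toFun := fun x => c a (e x) • x
      map_add' := fun x y => by
        set N := max (e x) (e y)
        have hx : ∀ b ∈ m ^ N, b • x = 0 := fun b hb => he x b (Ideal.pow_le_pow_right (le_max_left _ _) hb)
        have hy : ∀ b ∈ m ^ N, b • y = 0 := fun b hb => he y b (Ideal.pow_le_pow_right (le_max_right _ _) hb)
        rw [act a N _ x hx (hc a N), act a N _ y hy (hc a N),
          act a N _ (x + y) (fun b hb => by rw [smul_add, hx b hb, hy b hb, add_zero]) (hc a N), smul_add]
      map_smul' := fun s x => by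
        rw [RingHom.id_apply, act a (e x) _ (s • x) (fun b hb => by rw [smul_comm, he x b hb, smul_zero]) (hc a _),
          smul_comm] }
  have hΦ : ∀ (a : AdicCompletion m R) (n : ℕ) (r : R) (x : E), (∀ b ∈ m ^ n, b • x = 0) →
      AdicCompletion.evalₐ m n a = Ideal.Quotient.mk _ r → Φ a x = r • x := act
  let A : AdicCompletion m R →ₐ[R] Module.End R E :=
    { toFun := Φ
      map_one' := LinearMap.ext fun x => by
        rw [hΦ 1 (e x) 1 x (he x) (by rw [map_one, map_one]), one_smul]; rfl
      map_mul' := fun a b => LinearMap.ext fun x => by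
        rw [hΦ (a * b) (e x) (c a (e x) * c b (e x)) x (he x) (by rw [map_mul, hc, hc, map_mul]),
          Module.End.mul_apply, hΦ b (e x) _ x (he x) (hc b _),
          hΦ a (e x) _ _ (fun s hs => by rw [smul_comm, he x s hs, smul_zero]) (hc a _), mul_smul]
      map_zero' := LinearMap.ext fun x => by
        rw [hΦ 0 (e x) 0 x (he x) (by rw [map_zero, map_zero]), zero_smul]; rfl
      map_add' := fun a b => LinearMap.ext fun x => by
        rw [hΦ (a + b) (e x) (c a (e x) + c b (e x)) x (he x) (by rw [map_add, hc, hc, map_add]),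
          LinearMap.add_apply, hΦ b (e x) _ x (he x) (hc b _), hΦ a (e x) _ x (he x) (hc a _), add_smul]
      commutes' := fun s => LinearMap.ext fun x => by
        rw [hΦ _ (e x) s x (he x) (by rw [AlgHom.commutes]; rfl)]; rfl }
  have hA : Function.Bijective A := by
    refine ⟨(injective_iff_map_eq_zero A).2 fun a ha => AdicCompletion.ext_evalₐ fun n => ?_, fun h => ?_⟩
    · rw [map_zero, hc a n, Ideal.Quotient.eq_zero_iff_mem]
      refine mem_pow_of_forall hf fun x hx => ?_
      rw [← hΦ a n _ x hx (hc a n)]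
      exact LinearMap.congr_fun ha x
    · choose r hr using exists_scalar hf h
      have hcauchy : ∀ n, r n ≡ r (n + 1) [SMOD (m ^ n • ⊤ : Submodule R R)] := fun n => by
        rw [SModEq.sub_mem, smul_eq_mul, Ideal.mul_top]
        refine mem_pow_of_forall hf fun x hx => ?_
        rw [sub_smul, ← hr n x hx, ← hr (n + 1) x (fun b hb => hx b (Ideal.pow_le_pow_right (Nat.le_succ n) hb)),
          sub_self]
      refine ⟨AdicCompletion.mk m R (AdicCompletion.AdicCauchySequence.mk m R r hcauchy), LinearMap.ext fun x => ?_⟩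
      change Φ _ x = _
      rw [hΦ _ (e x) _ x (he x) (AdicCompletion.evalₐ_mk m (e x) _)]
      exact (hr (e x) x (he x)).symm
  exact ⟨(AlgEquiv.ofBijective A hA).symm⟩

variable [IsAdicComplete (maximalIdeal R) R]

theorem exists_scalar_complete (h : Module.End R E) : ∃ r : R, h = algebraMap R (Module.End R E) r := by
  obtain ⟨e⟩ := exists_endEquiv hf
  obtain ⟨r, hr⟩ := (AdicCompletion.of_bijective (maximalIdeal R) R).2 (e h)
  refine ⟨r, e.injective ?_⟩
  rw [AlgEquiv.commutes, ← hr]
  rfl

/-- Finite modules over a complete local ring are reflexive. -/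
theorem eval_surjective_of_finite (M : Type u) [AddCommGroup M] [Module R M] [Module.Finite R M] :
    Function.Surjective (LinearMap.applyₗ : M →ₗ[R] (M →ₗ[R] E) →ₗ[R] E) := by
  classical
  obtain ⟨q, π, hπ⟩ := Module.Finite.exists_fin' R M
  intro Φ
  obtain ⟨Φ', hΦ'⟩ := hf.isInjective.out (LinearMap.lcomp R E π)
    (LinearMap.lcomp_injective_of_surjective _ hπ) Φ
  let ι : Fin q → (E →ₗ[R] ((Fin q → R) →ₗ[R] E)) := fun i =>
    (LinearMap.proj (R := R) (φ := fun _ : Fin q => R) i).smulRightₗ
  choose a ha using fun i => exists_scalar_complete hf (Φ' ∘ₗ ι i)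
  refine ⟨π a, LinearMap.ext fun g => ?_⟩
  rw [LinearMap.applyₗ_apply_apply, ← hΦ']
  change g (π a) = Φ' (g ∘ₗ π)
  have hsum : g ∘ₗ π = ∑ i, ι i (g (π (Pi.single i 1))) := by
    refine LinearMap.pi_ext' fun j => LinearMap.ext_ring ?_
    simp only [LinearMap.comp_apply, LinearMap.coe_single, LinearMap.sum_apply, ι,
      LinearMap.smulRightₗ_apply, LinearMap.smulRight_apply, LinearMap.proj_apply]
    rw [Finset.sum_eq_single j]
    · rw [Pi.single_eq_same, one_smul]
    · intro i _ hij; rw [Pi.single_eq_of_ne hij, zero_smul]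
    · simp
  conv_lhs => rw [show a = ∑ i, a i • (Pi.single i (1 : R) : Fin q → R) by
    rw [← Finset.univ_sum_single a]
    refine Finset.sum_congr rfl fun i _ => ?_
    rw [Finset.univ_sum_single a, ← Pi.single_smul, smul_eq_mul, mul_one]]
  rw [hsum, map_sum, map_sum, map_sum]
  refine Finset.sum_congr rfl fun i _ => ?_
  have := LinearMap.congr_fun (ha i) (g (π (Pi.single i 1)))
  rw [LinearMap.comp_apply, Module.algebraMap_end_apply] at this
  rw [map_smul, map_smul, this]

theorem isArtinian_hull : IsArtinian R E := by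
  have hann : ∀ (N : Submodule R E) (x : E), (∀ r : R, (∀ y ∈ N, r • y = 0) → r • x = 0) → x ∈ N := by
    intro N x hx
    by_contra hne
    obtain ⟨h, hh⟩ := exists_ne_zero hf (M := E ⧸ N) (x := N.mkQ x)
      (fun h0 => hne ((Submodule.Quotient.mk_eq_zero N).1 h0))
    obtain ⟨r, hr⟩ := exists_scalar_complete hf (h ∘ₗ N.mkQ)
    have hr' : ∀ y, h (N.mkQ y) = r • y := fun y => LinearMap.congr_fun hr y
    refine hh ((hr' x).trans (hx r fun y hy => ?_))
    rw [← hr' y, Submodule.mkQ_apply, (Submodule.Quotient.mk_eq_zero N).2 hy, map_zero]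
  have hmono : StrictMono fun N : Submodule R E => OrderDual.toDual N.annihilator := fun N N' hlt => by
    refine OrderDual.toDual_lt_toDual.2 (lt_of_le_not_ge (Submodule.annihilator_mono hlt.le) fun hle => ?_)
    exact not_le_of_gt hlt fun x hx => hann N x fun r hr =>
      Submodule.mem_annihilator.1 (hle (Submodule.mem_annihilator.2 hr)) x hx
  exact ⟨(StrictMono.wellFoundedLT hmono).wf⟩

theorem isArtinian_dual_of_finite (M : Type u) [AddCommGroup M] [Module R M] [Module.Finite R M] :
    IsArtinian R (M →ₗ[R] E) := by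
  obtain ⟨q, π, hπ⟩ := Module.Finite.exists_fin' R M
  have := isArtinian_hull hf
  refine isArtinian_of_injective ((LinearMap.pi fun i : Fin q => LinearMap.applyₗ (π (Pi.single i 1))) :
    (M →ₗ[R] E) →ₗ[R] (Fin q → E)) fun g g' h => ?_
  refine LinearMap.ext fun x => ?_
  obtain ⟨v, rfl⟩ := hπ x
  have hcomp : g ∘ₗ π = g' ∘ₗ π := LinearMap.pi_ext' fun j => LinearMap.ext_ring (congrFun h j)
  exact LinearMap.congr_fun hcomp v

omit [IsAdicComplete (maximalIdeal R) R] [IsNoetherianRing R] in
theorem exists_injective_pi (M : Type u) [AddCommGroup M] [Module R M] [IsArtinian R M] :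
    ∃ (q : ℕ) (φ : M →ₗ[R] (Fin q → E)), Function.Injective φ := by
  obtain ⟨N, ⟨q, φ, rfl⟩, hmin⟩ := WellFounded.has_min (wellFounded_lt (α := Submodule R M))
    {N : Submodule R M | ∃ (q : ℕ) (φ : M →ₗ[R] (Fin q → E)), LinearMap.ker φ = N} ⟨_, 0, 0, rfl⟩
  refine ⟨q, φ, LinearMap.ker_eq_bot.1 ?_⟩
  by_contra hne
  obtain ⟨x, hx, hx0⟩ := Submodule.exists_mem_ne_zero_of_ne_bot hne
  obtain ⟨h, hh⟩ := exists_ne_zero hf hx0
  let F : Fin (q + 1) → (M →ₗ[R] E) := Fin.cons h fun i => LinearMap.proj i ∘ₗ φ
  have hF0 : F 0 = h := rfl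
  have hFs : ∀ i : Fin q, F i.succ = LinearMap.proj i ∘ₗ φ := fun i => Fin.cons_succ ..
  refine hmin _ ⟨q + 1, LinearMap.pi F, rfl⟩ (lt_of_le_not_ge (fun y hy => ?_) fun hle => hh ?_)
  · have h1 : LinearMap.pi F y = 0 := hy
    refine funext fun i => ?_
    have := congrFun h1 i.succ
    rwa [LinearMap.pi_apply, hFs] at this
  · have h1 : LinearMap.pi F x = 0 := hle hx
    exact congrFun h1 0

theorem finite_dual_and_bijective (M : Type u) [AddCommGroup M] [Module R M] [IsArtinian R M] :
    Module.Finite R (M →ₗ[R] E) ∧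
      Function.Bijective (LinearMap.applyₗ : M →ₗ[R] (M →ₗ[R] E) →ₗ[R] E) := by
  classical
  obtain ⟨q, φ, hφ⟩ := exists_injective_pi hf M
  let P : (Fin q → R) →ₗ[R] (M →ₗ[R] E) := Fintype.linearCombination R fun i => LinearMap.proj i ∘ₗ φ
  have hP : Function.Surjective P := by
    intro g
    obtain ⟨h, hh⟩ := hf.isInjective.out φ hφ g
    choose a ha using fun i => exists_scalar_complete hf (h ∘ₗ LinearMap.single R (fun _ : Fin q => E) i)
    refine ⟨a, LinearMap.ext fun x => ?_⟩
    rw [← hh x, Fintype.linearCombination_apply, LinearMap.sum_apply]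
    conv_rhs => rw [← Finset.univ_sum_single (φ x), map_sum]
    exact Finset.sum_congr rfl fun i _ => by
      rw [LinearMap.smul_apply, LinearMap.comp_apply, LinearMap.proj_apply]
      exact (LinearMap.congr_fun (ha i) (φ x i)).symm
  refine ⟨Module.Finite.of_surjective P hP, eval_injective hf M, fun Φ => ?_⟩
  let v : Fin q → E := fun i => Φ (LinearMap.proj i ∘ₗ φ)
  have hv : v ∈ LinearMap.range φ := by
    by_contra hne
    obtain ⟨h, hh⟩ := exists_ne_zero hf (M := (Fin q → E) ⧸ LinearMap.range φ) (x := (LinearMap.range φ).mkQ v)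
      (fun h0 => hne ((Submodule.Quotient.mk_eq_zero _).1 h0))
    choose a ha using fun i =>
      exists_scalar_complete hf (h ∘ₗ (LinearMap.range φ).mkQ ∘ₗ LinearMap.single R (fun _ : Fin q => E) i)
    have hsum : ∀ y : Fin q → E, h ((LinearMap.range φ).mkQ y) = ∑ i, a i • y i := fun y => by
      conv_lhs => rw [← Finset.univ_sum_single y, map_sum, map_sum]
      exact Finset.sum_congr rfl fun i _ => LinearMap.congr_fun (ha i) (y i)
    have h0 : P a = 0 := LinearMap.ext fun x => by
      rw [Fintype.linearCombination_apply, LinearMap.sum_apply]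
      refine Eq.trans ?_ ((hsum (φ x)).symm.trans ?_)
      · exact Finset.sum_congr rfl fun i _ => rfl
      · rw [Submodule.mkQ_apply, (Submodule.Quotient.mk_eq_zero _).2 (LinearMap.mem_range_self φ x), map_zero]
        rfl
    refine hh ?_
    rw [hsum]
    have := congrArg Φ h0
    rw [Fintype.linearCombination_apply, map_sum, map_zero] at this
    simpa [v] using this
  obtain ⟨x, hx⟩ := hv
  refine ⟨x, LinearMap.ext fun g => ?_⟩
  obtain ⟨a, rfl⟩ := hP g
  rw [Fintype.linearCombination_apply, LinearMap.applyₗ_apply_apply, map_sum, LinearMap.sum_apply]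
  refine Finset.sum_congr rfl fun i _ => ?_
  rw [map_smul, LinearMap.smul_apply]
  congr 1
  exact congrFun hx i

end Local

section Criteria

variable {R : Type u} [CommRing R] [IsLocalRing R] {E : Type u} [AddCommGroup E] [Module R E]

/-- A torsion module whose socle is one copy of the residue field is an essential extension of it. -/
theorem isEssentialInj_of_socle (hE : IsPowerTorsion (maximalIdeal R) E) {s : ResidueField R →ₗ[R] E}
    (hs : Function.Injective s) (hsoc : ∀ x, (∀ r ∈ maximalIdeal R, r • x = 0) → x ∈ LinearMap.range s) :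
    IsEssentialInj s := by
  refine isEssentialInj_of_forall hs fun x hx => ?_
  obtain ⟨n, hn⟩ := hE x
  induction n generalizing x with
  | zero => exact absurd (by simpa using hn 1 (by simp)) hx
  | succ n ih =>
    by_cases h : ∀ a ∈ maximalIdeal R, a • x = 0
    · exact ⟨1, by rw [one_smul]; exact hsoc x h, by rwa [one_smul]⟩
    push Not at h
    obtain ⟨a, ha, hax⟩ := h
    obtain ⟨r, hr, hne⟩ := ih (a • x) hax fun b hb => by
      rw [smul_smul]; exact hn _ (by rw [pow_succ]; exact Ideal.mul_mem_mul hb ha)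
    exact ⟨r * a, by rwa [mul_smul], by rwa [mul_smul]⟩

/-- The socle map attached to a simple `Hom(k, E)`. -/
theorem exists_socle (h : IsSimpleModule R (ResidueField R →ₗ[R] E)) :
    ∃ s : ResidueField R →ₗ[R] E, Function.Injective s ∧
      ∀ x, (∀ r ∈ maximalIdeal R, r • x = 0) → x ∈ LinearMap.range s := by
  have := IsSimpleModule.nontrivial R (ResidueField R →ₗ[R] E)
  obtain ⟨s, hs⟩ := exists_ne (0 : ResidueField R →ₗ[R] E)
  have hs1 : s 1 ≠ 0 := fun h1 => hs <| LinearMap.ext fun y => by
    obtain ⟨r, rfl⟩ := residue_surjective y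
    rw [← residue_smul_one r, map_smul, h1, smul_zero]; rfl
  refine ⟨s, (injective_iff_map_eq_zero s).2 fun y hy => ?_, fun x hx => ?_⟩
  · obtain ⟨r, rfl⟩ := residue_surjective y
    by_contra hne
    obtain ⟨u, rfl⟩ : IsUnit r := by
      by_contra hr; exact hne (Ideal.Quotient.eq_zero_iff_mem.2 hr)
    refine hs1 ?_
    rw [← residue_smul_one (u : R), map_smul] at hy
    have := congrArg ((↑u⁻¹ : R) • ·) hy
    simpa [smul_smul] using this
  · let g : ResidueField R →ₗ[R] E :=
      Submodule.liftQ (maximalIdeal R) (LinearMap.toSpanSingleton R E x) fun a ha => hx a ha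
    obtain ⟨r, hr⟩ := h.toSpanSingleton_surjective R hs g
    refine ⟨r • 1, ?_⟩
    rw [map_smul, ← LinearMap.smul_apply, show r • s = g from hr]
    exact one_smul R x

variable [IsNoetherianRing R]

/-- The length criterion. -/
theorem isInjectiveHull_of_length (hE : IsPowerTorsion (maximalIdeal R) E) {s : ResidueField R →ₗ[R] E}
    (hs : Function.Injective s) (hsoc : ∀ x, (∀ r ∈ maximalIdeal R, r • x = 0) → x ∈ LinearMap.range s)
    (hlen : ∀ N : ℕ, ∃ I : Ideal R, I ≤ maximalIdeal R ^ N ∧ (∃ M : ℕ, maximalIdeal R ^ M ≤ I) ∧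
      Module.length R (R ⧸ I) ≤ Module.length R ((R ⧸ I) →ₗ[R] E)) :
    IsInjectiveHull s := by
  have hess := isEssentialInj_of_socle hE hs hsoc
  obtain ⟨H, _, _, f, hf⟩ := exists_injectiveHull (R := R) (ResidueField R)
  have := hf.isInjective
  obtain ⟨α, hα, hαs⟩ := exists_injective_extension hess f hf.injective
  have hsurj : Function.Surjective α := by
    intro y
    obtain ⟨N, hN⟩ := isPowerTorsion_of_hull (maximalIdeal R) hf.toIsEssentialInj y
    obtain ⟨I, hIN, ⟨M, hM⟩, hle⟩ := hlen N
    let Ψ : ((R ⧸ I) →ₗ[R] E) →ₗ[R] ((R ⧸ I) →ₗ[R] H) := LinearMap.llcomp R (R ⧸ I) E H α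
    have hΨ : Function.Injective Ψ := fun a b h => LinearMap.ext fun x => hα (LinearMap.congr_fun h x)
    have hfl := isFiniteLength_quot hM
    have hlenH := length_dual hf hfl
    have hfin : IsFiniteLength R ((R ⧸ I) →ₗ[R] E) := by
      refine IsFiniteLength.of_injective ?_ hΨ
      rw [← Module.length_ne_top_iff, hlenH, Module.length_ne_top_iff]; exact hfl
    have hΨsurj := surjective_of_injective_of_length Ψ hΨ hfin (hlenH.trans_le hle)
    let g : (R ⧸ I) →ₗ[R] H := Submodule.liftQ I (LinearMap.toSpanSingleton R H y) fun a ha => hN a (hIN ha)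
    obtain ⟨g', hg'⟩ := hΨsurj g
    refine ⟨g' (Submodule.Quotient.mk 1), ?_⟩
    have := LinearMap.congr_fun hg' (Submodule.Quotient.mk 1)
    exact this.trans (one_smul R y)
  exact { toIsEssentialInj := hess
          isInjective := injective_of_retract α (LinearEquiv.ofBijective α ⟨hα, hsurj⟩).symm.toLinearMap
            (LinearMap.ext fun x => (LinearEquiv.ofBijective α ⟨hα, hsurj⟩).symm_apply_apply x) }

end Criteria

end Groth.Agent.InjHullLib
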