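import Mathlib
import Groth.Agent.InjHullLib.Matlis

/-!
Artinian local rings of finite injective dimension over themselves are self-injective, with simple socle.
-/

namespace Groth.Agent.InjHullLib

universe u

open CategoryTheory CategoryTheory.Abelian IsLocalRing

variable {R : Type u} [CommRing R] [IsLocalRing R] [IsArtinianRing R]

theorem exists_residueField_embedding :
    ∃ j : ResidueField R →ₗ[R] R, Function.Injective j := by
  obtain ⟨p, hp, f, hf⟩ := exists_injective_quotient_prime (R := R) (E := R)
  obtain rfl : p = maximalIdeal R := IsLocalRing.eq_maximalIdeal (IsArtinianRing.isMaximal_of_isPrime p)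
  exact ⟨f, hf⟩

/-- A module killed by the maximal ideal embeds in a free module. -/
theorem exists_embedding_free (Y : Type u) [AddCommGroup Y] [Module R Y]
    (hY : Module.IsTorsionBySet R Y (maximalIdeal R)) :
    ∃ (ι : Type u) (g : Y →ₗ[R] (ι →₀ R)), Function.Injective g := by
  obtain ⟨j, hj⟩ := exists_residueField_embedding (R := R)
  let : Module (R ⧸ maximalIdeal R) Y := hY.module
  let : Field (R ⧸ maximalIdeal R) := Ideal.Quotient.field _
  have : IsScalarTower R (R ⧸ maximalIdeal R) Y := hY.isScalarTower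
  let b := Module.Free.chooseBasis (R ⧸ maximalIdeal R) Y
  exact ⟨_, Finsupp.mapRange.linearMap j ∘ₗ (b.repr.restrictScalars R).toLinearMap,
    (Finsupp.mapRange_injective j (map_zero j) hj).comp b.repr.injective⟩

theorem subsingleton_ext_of_hasInjectiveDimensionLT (n : ℕ)
    [HasInjectiveDimensionLT (ModuleCat.of R R) (n + 2)] (j : ℕ) :
    ∀ (Y : ModuleCat.{u} R), (∀ a ∈ maximalIdeal R ^ j, ∀ y : Y, a • y = 0) →
      ∀ e : Ext.{u} Y (ModuleCat.of R R) (n + 1), e = 0 := by
  induction j with
  | zero =>
    intro Y hY e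
    have : Subsingleton Y := ⟨fun a b => by
      rw [← one_smul R a, ← one_smul R b, hY 1 (by simp) a, hY 1 (by simp) b]⟩
    rw [← e.mk₀_id_comp, (ModuleCat.isZero_of_subsingleton Y).eq_zero_of_src (𝟙 Y), Ext.mk₀_zero, Ext.zero_comp]
  | succ j ih =>
    intro Y hY e
    let N : Submodule R Y := maximalIdeal R ^ 1 • ⊤
    let S : ShortComplex (ModuleCat.{u} R) :=
      ShortComplex.mk (ModuleCat.ofHom N.subtype) (ModuleCat.ofHom N.mkQ) (by ext x; simp)
    have hS : S.ShortExact :=
      { exact := (ShortComplex.ShortExact.moduleCat_exact_iff_function_exact _).2 (LinearMap.exact_subtype_mkQ N)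
        mono_f := (ModuleCat.mono_iff_injective _).2 Subtype.val_injective
        epi_g := (ModuleCat.epi_iff_surjective _).2 N.mkQ_surjective }
    have h1 : (Ext.mk₀ S.f).comp e (zero_add _) = 0 := by
      refine ih S.X₁ (fun a ha y => Subtype.ext ?_) _
      obtain ⟨y, hy⟩ := y
      change a • y = 0
      refine Submodule.smul_induction_on hy (fun b hb z _ => ?_) fun u v hu hv => by rw [smul_add, hu, hv, add_zero]
      rw [smul_smul]
      exact hY _ (by rw [pow_succ]; exact Ideal.mul_mem_mul ha (by simpa using hb)) z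
    obtain ⟨e', rfl⟩ := Ext.contravariant_sequence_exact₂ hS (ModuleCat.of R R) e h1
    suffices e' = 0 by rw [this, Ext.comp_zero]
    -- `Y ⧸ mY` embeds in a free module
    obtain ⟨ι, g, hg⟩ := exists_embedding_free (R := R) (Y ⧸ N) (fun y a => by
      obtain ⟨y, rfl⟩ := N.mkQ_surjective y
      rw [← map_smul]
      exact (Submodule.Quotient.mk_eq_zero N).2
        (Submodule.smul_mem_smul (by rw [pow_one]; exact a.2) trivial))
    let T : ShortComplex (ModuleCat.{u} R) :=
      ShortComplex.mk (ModuleCat.ofHom g) (ModuleCat.ofHom (LinearMap.range g).mkQ) (by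
        refine ModuleCat.hom_ext (LinearMap.ext fun x => ?_)
        exact (Submodule.Quotient.mk_eq_zero _).2 (LinearMap.mem_range_self g x))
    have hT : T.ShortExact :=
      { exact := (ShortComplex.ShortExact.moduleCat_exact_iff_function_exact _).2 (LinearMap.exact_map_mkQ_range g)
        mono_f := (ModuleCat.mono_iff_injective _).2 hg
        epi_g := (ModuleCat.epi_iff_surjective _).2 (Submodule.mkQ_surjective _) }
    obtain ⟨x, hx⟩ := Ext.contravariant_sequence_exact₁ hT (ModuleCat.of R R) e' (n₁ := n + 2) (by omega)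
      (Ext.eq_zero_of_hasInjectiveDimensionLT _ (n + 2) le_rfl)
    have : Projective T.X₂ := (inferInstance : Projective (ModuleCat.of R (ι →₀ R)))
    rw [← hx, x.eq_zero_of_projective, Ext.comp_zero]

theorem hasInjectiveDimensionLT_one (m : ℕ) (h : HasInjectiveDimensionLT (ModuleCat.of R R) (m + 1)) :
    HasInjectiveDimensionLT (ModuleCat.of R R) 1 := by
  induction m with
  | zero => exact h
  | succ m ih =>
    refine ih (hasInjectiveDimensionLT_of_enoughProjectives.{u} _ _ fun Y => ⟨fun a b => ?_⟩)
    obtain ⟨j, hj⟩ := (IsArtinianRing.isNilpotent_jacobson_bot (R := R))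
    have hk : ∀ c ∈ maximalIdeal R ^ j, ∀ y : Y, c • y = 0 := fun c hc y => by
      rw [← IsLocalRing.jacobson_eq_maximalIdeal (⊥ : Ideal R) bot_ne_top, hj] at hc
      rw [(Submodule.mem_bot R).1 hc, zero_smul]
    rw [subsingleton_ext_of_hasInjectiveDimensionLT m j Y hk a, subsingleton_ext_of_hasInjectiveDimensionLT m j Y hk b]

/-- An artinian Gorenstein local ring has simple socle. -/
theorem exists_socle_of_gorenstein (h : LocCoh.IsGorensteinLocalRing R) :
    ∃ s : ResidueField R →ₗ[R] R, Function.Injective s ∧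
      ∀ x, (∀ r ∈ maximalIdeal R, r • x = 0) → x ∈ LinearMap.range s := by
  obtain ⟨n, hn⟩ := h.exists_hasInjectiveDimensionLT
  have h1 := hasInjectiveDimensionLT_one (R := R) n (hasInjectiveDimensionLT_of_ge _ n (n + 1) (Nat.le_succ n))
  have : CategoryTheory.Injective (ModuleCat.of R R) := injective_iff_hasInjectiveDimensionLT_one.2 h1
  have : Module.Injective R R := Module.injective_module_of_injective_object R R
  have hind : InjHull.IsIndecomposable R R := ⟨inferInstance, fun N N' hc => by
    obtain ⟨a, ha, b, hb, hab⟩ := Submodule.mem_sup.1 (hc.sup_eq_top.ge (Submodule.mem_top (x := (1 : R))))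
    rcases IsLocalRing.isUnit_or_isUnit_of_add_one hab with hu | hu
    · refine Or.inr (eq_bot_iff.2 ?_)
      rw [← hc.inf_eq_bot]
      exact le_inf (le_top.trans (Ideal.eq_top_of_isUnit_mem _ ha hu).ge) le_rfl
    · refine Or.inl (eq_bot_iff.2 ?_)
      rw [← hc.inf_eq_bot]
      exact le_inf le_rfl (le_top.trans (Ideal.eq_top_of_isUnit_mem _ hb hu).ge)⟩
  obtain ⟨s, hs⟩ := exists_residueField_embedding (R := R)
  refine ⟨s, hs, fun x hx => ?_⟩
  by_cases hx0 : x = 0
  · exact hx0 ▸ zero_mem _
  have hs1 : s 1 ≠ 0 := fun h => one_ne_zero (hs (h.trans (map_zero s).symm))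
  obtain ⟨z, ⟨hz₁, hz₂⟩, hz⟩ := Submodule.exists_mem_ne_zero_of_ne_bot
    (inf_ne_bot_of_indecomposable hind (N := Submodule.span R {x}) (N' := LinearMap.range s)
      (by rwa [Ne, Submodule.span_singleton_eq_bot]) (fun h => hs1 (by
        have := LinearMap.mem_range_self s 1
        rwa [h, Submodule.mem_bot] at this)))
  obtain ⟨r, rfl⟩ := Submodule.mem_span_singleton.1 hz₁
  obtain ⟨u, rfl⟩ : IsUnit r := by
    by_contra hr
    exact hz (hx r hr)
  have := (LinearMap.range s).smul_mem (↑u⁻¹ : R) hz₂
  rwa [smul_smul, Units.inv_mul, one_smul] at this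

end Groth.Agent.InjHullLib
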