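import Mathlib
import Groth.Agent.InjHullLib.Matlis

/-!
Base change of the injective hull of the residue field along a flat local map whose closed fibre has
finite length and simple socle.
-/

namespace Groth.Agent.InjHullLib

universe u

open InjHull IsLocalRing TensorProduct

variable {A : Type u} [CommRing A] [IsLocalRing A] (B : Type u) [CommRing B] [Algebra A B]
  [Module.Flat A B]

/-- The length of a flat base change of a module of finite length. -/
theorem length_baseChange {M : Type u} [AddCommGroup M] [Module A M] (hM : IsFiniteLength A M) :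
    Module.length B (B ⊗[A] M) =
      Module.length A M * Module.length B (B ⧸ (maximalIdeal A).map (algebraMap A B)) := by
  induction hM with
  | @of_subsingleton M _ _ _ =>
    rw [Module.length_eq_zero (M := M), Module.length_eq_zero, zero_mul]
  | @of_simple_quotient M _ _ N hN hlen ih =>
    obtain ⟨I, hI, ⟨e⟩⟩ := isSimpleModule_iff_quot_maximal.1 hN
    obtain rfl := IsLocalRing.eq_maximalIdeal hI
    have hq : Module.length B (B ⊗[A] (M ⧸ N)) =
        Module.length B (B ⧸ (maximalIdeal A).map (algebraMap A B)) :=
      ((e.baseChange A B _ _).trans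
        (Algebra.TensorProduct.quotIdealMapEquivTensorQuot B (maximalIdeal A)).toLinearEquiv.symm).length_eq
    have h1 : Module.length A (M ⧸ N) = 1 := Module.length_eq_one A _
    rw [Module.length_eq_add_of_exact N.subtype N.mkQ Subtype.val_injective N.mkQ_surjective
        (LinearMap.exact_subtype_mkQ N),
      Module.length_eq_add_of_exact (N.subtype.baseChange B) (N.mkQ.baseChange B)
        (Module.Flat.lTensor_preserves_injective_linearMap (M := B) N.subtype Subtype.val_injective)
        (LinearMap.lTensor_surjective B N.mkQ_surjective)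
        (Module.Flat.lTensor_exact B (LinearMap.exact_subtype_mkQ N)),
      hq, h1, ih, add_mul, one_mul]

variable [IsLocalRing B] [IsNoetherianRing A] [IsNoetherianRing B]

/-- The base change of a hull of the residue field is a hull of the residue field. -/
theorem exists_hull_baseChange (hle : (maximalIdeal A).map (algebraMap A B) ≤ maximalIdeal B) {K : ℕ}
    (hK : maximalIdeal B ^ K ≤ (maximalIdeal A).map (algebraMap A B))
    {σ : ResidueField B →ₗ[B] B ⧸ (maximalIdeal A).map (algebraMap A B)} (hσ : Function.Injective σ)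
    (hsoc : ∀ x, (∀ r ∈ maximalIdeal B, r • x = 0) → x ∈ LinearMap.range σ)
    {E : Type u} [AddCommGroup E] [Module A E] {f : ResidueField A →ₗ[A] E} (hf : IsInjectiveHull f) :
    ∃ g : ResidueField B →ₗ[B] B ⊗[A] E, IsInjectiveHull g := by
  classical
  let m := maximalIdeal A
  let e : (B ⧸ m.map (algebraMap A B)) ≃ₗ[B] B ⊗[A] (A ⧸ m) :=
    (Algebra.TensorProduct.quotIdealMapEquivTensorQuot B m).toLinearEquiv
  let F : B ⊗[A] (A ⧸ m) →ₗ[B] B ⊗[A] E := LinearMap.baseChange B (f : (A ⧸ m) →ₗ[A] E)
  have hF : Function.Injective F :=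
    Module.Flat.lTensor_preserves_injective_linearMap (M := B) (f : (A ⧸ m) →ₗ[A] E) hf.injective
  -- torsion
  have htor : LocCoh.IsPowerTorsion (maximalIdeal B) (B ⊗[A] E) := by
    intro x
    induction x using TensorProduct.induction_on with
    | zero => exact ⟨0, fun a _ => smul_zero a⟩
    | tmul b y =>
      obtain ⟨n, hn⟩ := isPowerTorsion_of_hull m hf.toIsEssentialInj y
      refine ⟨K * n, fun a ha => ?_⟩
      have h : a ∈ (m ^ n).map (algebraMap A B) := by
        rw [Ideal.map_pow]; rw [pow_mul] at ha; exact Ideal.pow_right_mono hK n ha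
      clear ha
      induction h using Submodule.span_induction generalizing b with
      | mem c hc =>
        obtain ⟨c, hc, rfl⟩ := hc
        rw [algebraMap_smul, ← TensorProduct.tmul_smul, hn c hc, TensorProduct.tmul_zero]
      | zero => rw [zero_smul]
      | add c d _ _ hc hd => rw [add_smul, hc b, hd b, add_zero]
      | smul c d _ hd => rw [smul_eq_mul, mul_comm, mul_smul, TensorProduct.smul_tmul', hd (c • b)]
    | add x y hx hy =>
      obtain ⟨n, hn⟩ := hx
      obtain ⟨n', hn'⟩ := hy
      exact ⟨n + n', fun a ha => by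
        rw [smul_add, hn a (Ideal.pow_le_pow_right (Nat.le_add_right n n') ha),
          hn' a (Ideal.pow_le_pow_right (Nat.le_add_left n' n) ha), add_zero]⟩
  -- socle
  obtain ⟨G, hG⟩ := IsNoetherian.noetherian m
  let Φ : E →ₗ[A] (G → E) := LinearMap.pi fun a => (a : A) • LinearMap.id
  have hex : Function.Exact (f : (A ⧸ m) →ₗ[A] E) Φ := fun y => by
    constructor
    · intro hy
      refine (mem_range_iff hf.toIsEssentialInj).2 fun r hr => ?_
      replace hr : r ∈ m := hr
      rw [← hG] at hr
      induction hr using Submodule.span_induction with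
      | mem c hc => exact congrFun hy ⟨c, hc⟩
      | zero => rw [zero_smul]
      | add c d _ _ hc hd => rw [add_smul, hc, hd, add_zero]
      | smul c d _ hd => rw [smul_eq_mul, mul_smul, hd, smul_zero]
    · rintro ⟨c, rfl⟩
      exact funext fun a => smul_eq_zero_of_mem_range (LinearMap.mem_range_self f c)
        (hG.le (Submodule.subset_span a.2))
  have hsocle : ∀ x : B ⊗[A] E, (∀ r ∈ maximalIdeal B, r • x = 0) → ∃ z, F z = x := by
    intro x hx
    have h0 : Φ.lTensor B x = 0 := by
      apply (TensorProduct.piRight A B B fun _ : G => E).injective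
      rw [map_zero]
      have hcomp : ∀ x, TensorProduct.piRight A B B (fun _ : G => E) (Φ.lTensor B x) = fun a : G => (a : A) • x := by
        intro x
        induction x using TensorProduct.induction_on with
        | zero => rw [map_zero, map_zero]; funext a; simp
        | tmul b y => funext a; simp [Φ]
        | add u v hu hv => rw [map_add, map_add, hu, hv]; funext a; simp
      rw [hcomp]
      funext a
      rw [Pi.zero_apply, ← algebraMap_smul B (a : A) x]
      exact hx _ (hle (Ideal.mem_map_of_mem _ (hG.le (Submodule.subset_span a.2))))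
    exact (Module.Flat.lTensor_exact B hex x).1 h0
  let s : ResidueField B →ₗ[B] B ⊗[A] E := F ∘ₗ e.toLinearMap ∘ₗ σ
  have hs : Function.Injective s := hF.comp (e.injective.comp hσ)
  have hssoc : ∀ x, (∀ r ∈ maximalIdeal B, r • x = 0) → x ∈ LinearMap.range s := by
    intro x hx
    obtain ⟨z, rfl⟩ := hsocle x hx
    obtain ⟨c, hc⟩ := hsoc (e.symm z) fun r hr => e.injective (by
      rw [map_smul, e.apply_symm_apply, map_zero]
      exact hF (by rw [map_smul, map_zero]; exact hx r hr))
    exact ⟨c, by simp [s, hc]⟩
  refine ⟨s, isInjectiveHull_of_length htor hs hssoc fun N => ⟨(m ^ N).map (algebraMap A B), ?_, ?_, ?_⟩⟩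
  · rw [Ideal.map_pow]; exact Ideal.pow_right_mono hle N
  · exact ⟨K * N, by rw [Ideal.map_pow, pow_mul]; exact Ideal.pow_right_mono hK N⟩
  · have hfl : IsFiniteLength A (A ⧸ m ^ N) := isFiniteLength_quot le_rfl
    have hD : IsFiniteLength A ((A ⧸ m ^ N) →ₗ[A] E) := by
      rw [← Module.length_ne_top_iff, length_dual hf hfl, Module.length_ne_top_iff]; exact hfl
    rw [(Algebra.TensorProduct.quotIdealMapEquivTensorQuot B (m ^ N)).toLinearEquiv.length_eq,
      length_baseChange B hfl, ← length_dual hf hfl, ← length_baseChange B hD]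
    let eN := (Algebra.TensorProduct.quotIdealMapEquivTensorQuot B (m ^ N)).toLinearEquiv
    let Ψ : ((A ⧸ m ^ N) →ₗ[A] E) →ₗ[A] ((B ⧸ (m ^ N).map (algebraMap A B)) →ₗ[B] B ⊗[A] E) :=
      { toFun := fun g => g.baseChange B ∘ₗ eN.toLinearMap
        map_add' := fun g g' => by rw [LinearMap.baseChange_add, LinearMap.add_comp]
        map_smul' := fun r g => by rw [LinearMap.baseChange_smul, LinearMap.smul_comp]; rfl }
    refine Module.length_le_of_injective (Ψ.liftBaseChange B) ?_
    have he : eN (Ideal.Quotient.mk _ 1) = (1 : B) ⊗ₜ[A] (Ideal.Quotient.mk (m ^ N) 1) := by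
      rw [(Ideal.Quotient.mk _).map_one, (Ideal.Quotient.mk (m ^ N)).map_one]; exact map_one (Algebra.TensorProduct.quotIdealMapEquivTensorQuot B (m ^ N))
    let ev : ((B ⧸ (m ^ N).map (algebraMap A B)) →ₗ[B] B ⊗[A] E) →ₗ[B] B ⊗[A] E :=
      LinearMap.applyₗ (Ideal.Quotient.mk _ 1)
    let ev₀ : ((A ⧸ m ^ N) →ₗ[A] E) →ₗ[A] E := LinearMap.applyₗ (Ideal.Quotient.mk (m ^ N) 1)
    have hev₀ : Function.Injective ev₀ := fun g g' h => LinearMap.ext fun y => by
      obtain ⟨r, rfl⟩ := Ideal.Quotient.mk_surjective y
      rw [show Ideal.Quotient.mk (m ^ N) r = r • Ideal.Quotient.mk (m ^ N) 1 from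
        congrArg (Ideal.Quotient.mk (m ^ N)) (mul_one r).symm, map_smul, map_smul]
      exact congrArg (r • ·) h
    have : ev ∘ₗ Ψ.liftBaseChange B = ev₀.baseChange B := by
      refine TensorProduct.AlgebraTensorModule.ext fun b g => ?_
      simp only [LinearMap.comp_apply, LinearMap.liftBaseChange_tmul, map_smul, LinearMap.baseChange_tmul]
      change b • (g.baseChange B (eN (Ideal.Quotient.mk _ 1))) = _
      rw [he, LinearMap.baseChange_tmul, TensorProduct.smul_tmul', smul_eq_mul, mul_one]
      rfl
    refine Function.Injective.of_comp (f := ev) ?_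
    rw [← LinearMap.coe_comp, this]
    exact Module.Flat.lTensor_preserves_injective_linearMap (M := B) ev₀ hev₀

end Groth.Agent.InjHullLib
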